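import Cfsg.Agent.H3.D43.Inner
import Cfsg.Agent.Mrg.ParSys.Fam.D4
import Cfsg.Agent.SignalizersComponents.SLQuasisimple
import Cfsg.Agent.SignalizersComponents.ComponentImage

/-!
# ³D₄(3): the facts (helper3)

`dat` : the structure `Dat` for `³D₄(3)`.
-/

set_option autoImplicit false
set_option maxHeartbeats 400000

namespace Cfsg.Agent.H3.D43

open Subgroup Cfsg.Agent.SplitTwo Cfsg.Agent.TitsThree.RankTwoZ Cfsg Cfsg.Agent.H459.Rad Cfsg.Agent.H839.Rad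
open Cfsg.Lie Cfsg.Agent.ChevalleyStructure Cfsg.Agent.Hexagon
open Cfsg.Agent.Nodes.RGDFoldSL (wS hS lo_eq coe_hS)
open Cfsg.Agent.ChevalleyStructure.SL2Hom (up lo mem_closure_SL2)
open Cfsg.Agent.KFacts.TwDFour.Out
open Cfsg.Agent.Nodes.RGDTwGen Cfsg.Agent.Nodes.RGDChev Cfsg.Agent.Nodes.BNOf Cfsg.Agent.Tits.Roots
open Cfsg.Agent.Nodes.RGDTwNode.D4 (rest)

section

variable {K : Type} [Field K] [Fintype K] {φ : K →+* K} (hφ : ∀ x, φ x = x ^ 3)
  (hK : Fintype.card K = 3 ^ 3)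

/-- the Coxeter system -/
abbrev cs : CoxeterSystem CoxeterMatrix.G₂ CoxeterMatrix.G₂.Group := CoxeterMatrix.G₂.toCoxeterSystem

include hφ hK in
/-- the Sylow `3`-subgroup in both descriptions -/
theorem UU_coe : RGD.Sup (Nodes.RGDTwD4.X φ 3) (RGD.Pos cs Nodes.RGDTwD4.isCartan) = UU (TwD4RGD.X K 3) := by
  have hle := D4Fixed.twisted_le_fix hK hφ
  have c2 := ParSys.Fam.D4.mem_iff (q := 3) hle (k := 2) ParSys.Fam.D4.cls2 (by decide +kernel) ParSys.Fam.D4.L_eqs.2.1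
  have c3 := ParSys.Fam.D4.mem_iff (q := 3) hle (k := 3) ParSys.Fam.D4.cls3 (by decide +kernel) ParSys.Fam.D4.L_eqs.2.2.1
  have c4 := ParSys.Fam.D4.mem_iff (q := 3) hle (k := 4) ParSys.Fam.D4.cls4 (by decide +kernel)
    ParSys.Fam.D4.L_eqs.2.2.2.1
  have c5 := ParSys.Fam.D4.mem_iff (q := 3) hle (k := 5) ParSys.Fam.D4.cls5 (by decide +kernel)
    ParSys.Fam.D4.L_eqs.2.2.2.2.1
  have c1 := ParSys.Fam.D4.mem_iff (q := 3) hle (k := 1) Nodes.RGDTwD4.cls1 (by decide +kernel) ParSys.Fam.D4.L_eqs.1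
  have c6 := ParSys.Fam.D4.mem_iff (q := 3) hle (k := 6) Nodes.RGDTwD4.cls0 (by decide +kernel)
    ParSys.Fam.D4.L_eqs.2.2.2.2.2
  apply le_antisymm
  · refine RGD.Sup_le fun z hz => ?_
    obtain ⟨k, hk, rfl⟩ := (ParSys.Fam.D4.isRoot_iff' z).1 hz.1
    intro g hg
    unfold UU
    rcases ParSys.Fam.D4.pos_cases k hk hz.2 with e | e | e | e | e | e
    · rw [e, c6] at hg
      exact mem_sup_right hg
    · rw [e, c1] at hg
      exact mem_sup_left (mem_sup_left (mem_sup_left (mem_sup_left (mem_sup_left hg))))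
    · rw [e, c2] at hg
      exact mem_sup_left (mem_sup_left (mem_sup_left (mem_sup_left (mem_sup_right hg))))
    · rw [e, c3] at hg
      exact mem_sup_left (mem_sup_left (mem_sup_left (mem_sup_right hg)))
    · rw [e, c4] at hg
      exact mem_sup_left (mem_sup_left (mem_sup_right hg))
    · rw [e, c5] at hg
      exact mem_sup_left (mem_sup_right hg)
  · unfold UU
    refine sup_le (sup_le (sup_le (sup_le (sup_le ?_ ?_) ?_) ?_) ?_) ?_
    · exact fun g hg => ParSys.Fam.D4.X_le_UU (isRoot_sr _ Nodes.RGDTwD4.isCartan 1) (sr_nonneg 1) ((c1 g).2 hg)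
    · exact fun g hg => ParSys.Fam.D4.pos_V 22 (by decide +kernel) (by decide +kernel) ((c2 g).2 hg)
    · exact fun g hg => ParSys.Fam.D4.pos_V 17 (by decide +kernel) (by decide +kernel) ((c3 g).2 hg)
    · exact fun g hg => ParSys.Fam.D4.pos_V 23 (by decide +kernel) (by decide +kernel) ((c4 g).2 hg)
    · exact fun g hg => ParSys.Fam.D4.pos_V 19 (by decide +kernel) (by decide +kernel) ((c5 g).2 hg)
    · exact fun g hg => ParSys.Fam.D4.X_le_UU (isRoot_sr _ Nodes.RGDTwD4.isCartan 0) (sr_nonneg 0) ((c6 g).2 hg)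

theorem card_KD (hK : Fintype.card K = 3 ^ 3) (hφ : ∀ x, φ x = x ^ 3) : Nat.card (KD φ 1) = 27 := by
  rw [F3_eq_top hK hφ, Nat.card_congr Subfield.topEquiv.toEquiv, Nat.card_eq_fintype_card, hK]
  norm_num

omit [Fintype K] in
theorem n_one : Nodes.RGDTwD4.n hφ 1 = ⟨D4U.nb K, D4U.nb_mem hφ⟩ := Subtype.ext Nodes.RGDTwD4.nI_one

/-- the Levi subgroup is the image of `SL₂(27)` -/
theorem L_range : TwD4RGD.X K 3 1 ⊔ TwD4RGD.X K 3 7 = (PhiD hφ hK 1).range := by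
  have hle := D4Fixed.twisted_le_fix hK hφ
  have c1 := ParSys.Fam.D4.mem_iff (q := 3) hle (k := 1) Nodes.RGDTwD4.cls1 (by decide +kernel) ParSys.Fam.D4.L_eqs.1
  have hmb := TwD4Par.maps_nb (q := 3) hφ
  have hn : PhiD hφ hK 1 (wS 1) = ⟨D4U.nb K, D4U.nb_mem hφ⟩ := (PhiD_wS hφ hK 1).trans (n_one hφ)
  rw [← hn] at hmb
  apply le_antisymm
  · refine sup_le ?_ ?_
    · intro g hg
      obtain ⟨a, ha⟩ := (mem_X hφ hK 1 g).1 ((c1 g).2 hg)
      exact ⟨_, ha.symm⟩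
    · intro g hg
      have h1 := Maps.mem_inv hmb (k := 1) (k' := 7) (by decide) hg
      obtain ⟨a, ha⟩ := (mem_X hφ hK 1 _).1 ((c1 _).2 h1)
      refine ⟨wS 1 * up a * (wS 1)⁻¹, ?_⟩
      rw [map_mul, map_mul, map_inv, ← ha]
      group
  · rintro _ ⟨g, rfl⟩
    have h1 := mem_closure_SL2 g
    have h2 : Subgroup.closure (Set.range (up (F := KD φ 1)) ∪ Set.range (lo (F := KD φ 1))) ≤
        (TwD4RGD.X K 3 1 ⊔ TwD4RGD.X K 3 7).comap (PhiD hφ hK 1) := by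
      rw [closure_le]
      rintro _ (⟨t, rfl⟩ | ⟨t, rfl⟩)
      · exact mem_sup_left ((c1 _).1 ((mem_X hφ hK 1 _).2 ⟨t, rfl⟩))
      · refine mem_sup_right ?_
        rw [lo_eq, map_mul, map_mul, map_inv]
        exact Maps.mem hmb (k := 1) (k' := 7) (by decide) ((c1 _).1 ((mem_X hφ hK 1 _).2 ⟨-t, rfl⟩))
    exact h2 h1

theorem act_hS {d : KD φ 1} (hd : d ≠ 0) (a : KD φ 1) :
    PhiD hφ hK 1 (hS d) * PhiD hφ hK 1 (up a) * (PhiD hφ hK 1 (hS d))⁻¹ = PhiD hφ hK 1 (up (d ^ 2 * a)) := by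
  have h1 := (coordD hφ hK 1).act _ (PhiD_hS hφ hK 1 d hd) a
  rw [chD_hS hφ hK 1 d hd] at h1
  exact h1

include hφ hK in
theorem exists_d : ∃ d : KD φ 1, d ≠ 0 ∧ d ^ 2 ≠ 1 :=
  SignalizersComponents.SLQuasisimple.exists_sq_ne_one (by rw [card_KD hK hφ]; norm_num)

omit [Fintype K] in
theorem T_norm {t : ↥(twistedD4 K 3)} (ht : t ∈ Nodes.RGDTwD4.T K 3) (k : ZMod (2 * 6)) {x : ↥(twistedD4 K 3)}
    (hx : x ∈ TwD4RGD.X K 3 k) : t * x * t⁻¹ ∈ TwD4RGD.X K 3 k := by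
  have ht' : (t : GL chevD4.Idx K) ∈ chevD4.diagonalSubgroup K := (mem_inf.1 (mem_subgroupOf.1 ht)).1
  exact TwD4RGD.H_RS ht' (TwD4RGD.L_lt k) hx

include hK in
theorem charP3 : CharP K 3 :=
  (CharP.charP_iff_prime_eq_zero Nat.prime_three).2 (by exact_mod_cast three_eq_zero (hK.trans (by norm_num)))

include hφ hK in
theorem syl {x : ↥(twistedD4 K 3)} (hx : orderOf x = 3) : ∃ g, g * x * g⁻¹ ∈ UU (TwD4RGD.X K 3) := by
  have : Fact (Nat.Prime 3) := ⟨Nat.prime_three⟩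
  have := charP3 hK
  have : Finite CoxeterMatrix.G₂.Group := finiteW cs
  have R := Cfsg.Agent.Nodes.RGDTwD4.rgd cs hK hφ 3
  have hi := not_dvd_index hφ hK cs 3
  let P : Sylow 3 ↥(twistedD4 K 3) := R.isPGroup_Upos.toSylow hi
  have hx' : IsPGroup 3 ↥(zpowers x) := IsPGroup.of_card (n := 1) (by rw [Nat.card_zpowers, hx, pow_one])
  obtain ⟨P', hP'⟩ := hx'.exists_le_sylow
  obtain ⟨g, hg⟩ := MulAction.exists_smul_eq (↥(twistedD4 K 3)) P' P
  refine ⟨g, ?_⟩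
  have h1 : g * x * g⁻¹ ∈ (P : Subgroup ↥(twistedD4 K 3)) := by
    rw [← hg, Sylow.coe_subgroup_smul]
    exact smul_mem_pointwise_smul x (MulAut.conj g) _ (hP' (mem_zpowers x))
  rw [← UU_coe hφ hK]
  exact h1

include hK in
/-- **the facts on `³D₄(3)`** -/
theorem dat {σ : K ≃+* K} (hσ : ∀ x, σ x = φ x) : Dat σ (TwD4RGD.X K 3) (TwD4Par.ev (TwD4Rel.X1 σ)) (TwD4Par.ev TwD4Rel.X2)
    (TwD4Par.ev (TwD4Rel.X3 σ)) (TwD4Par.ev TwD4Rel.X4) (TwD4Par.ev (TwD4Rel.X5 σ)) (TwD4Par.ev TwD4Rel.X6)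
    ⟨D4U.na K, D4U.na_mem hφ⟩ ⟨D4U.nb K, D4U.nb_mem hφ⟩ (TwD4RGD.X K 3 1 ⊔ TwD4RGD.X K 3 7) := by
  have hle := D4Fixed.twisted_le_fix hK hφ
  have h27 : Fintype.card K = 27 := hK.trans (by norm_num)
  have hf : ∀ x, σ x = x ^ 3 := fun x => by rw [hσ, hφ]
  have h3 : ∀ a, σ (σ (σ a)) = a := fun a => sig3 h27 hf a
  have H := TwD4Par.hexPar hφ hle hσ h3
  have c1 := ParSys.Fam.D4.mem_iff (q := 3) hle (k := 1) Nodes.RGDTwD4.cls1 (by decide +kernel) ParSys.Fam.D4.L_eqs.1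
  obtain ⟨d, hd, hd2⟩ := exists_d hφ hK
  refine ⟨h27, hf, H, TwD4Par.maps_na hφ, TwD4Par.maps_nb hφ, TwD4RGD.iSup_X hφ, rfl, ?_, ?_, ?_, ?_, ?_⟩
  · rw [L_range hφ hK]
    have hq : IsQuasisimple (Matrix.SpecialLinearGroup (Fin 2) (KD φ 1)) :=
      SignalizersComponents.SLQuasisimple.isQuasisimple_two (by rw [card_KD hK hφ]; norm_num)
    refine SignalizersComponents.ComponentImage.isQuasisimple_of_surjective hq (PhiD hφ hK 1).rangeRestrict
      (PhiD hφ hK 1).rangeRestrict_surjective ?_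
    rw [nontrivial_iff_ne_bot]
    intro h
    have h1 : PhiD hφ hK 1 (up 1) ∈ (PhiD hφ hK 1).range := ⟨_, rfl⟩
    rw [h, mem_bot] at h1
    exact (coordD hφ hK 1).ne_one one_ne_zero h1
  · intro a ha
    obtain ⟨b, hb⟩ := (mem_X hφ hK 1 _).1 ((c1 _).2 ((H.mem1 _).2 ⟨a, rfl⟩))
    have h1 := ha (PhiD hφ hK 1 (hS d)) (by rw [L_range hφ hK]; exact ⟨_, rfl⟩)
    rw [hb] at h1
    have h2 := act_hS hφ hK hd b
    rw [h1, mul_inv_cancel_right] at h2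
    have h3 : b = d ^ 2 * b := (coordD hφ hK 1).inj h2
    have h4 : b = 0 := by
      have h5 : (d ^ 2 - 1) * b = 0 := by linear_combination -h3
      exact (mul_eq_zero.1 h5).resolve_left (sub_ne_zero.2 hd2)
    have h5 : PhiD hφ hK 1 (up 0) = 1 := (coordD hφ hK 1).zero
    rw [h4, h5] at hb
    exact H.inj1 _ _ (hb.trans (z1 H.rel).symm)
  · have hd2' : d ^ 2 ≠ 0 := pow_ne_zero 2 hd
    have h26 : d ^ 26 = 1 := by
      have h5 : d ^ 27 = d := by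
        apply Subtype.ext
        rw [SubmonoidClass.coe_pow]
        exact pow27 h27 _
      have h6 : d ^ 26 * d = 1 * d := by rw [← pow_succ, one_mul]; exact h5
      exact mul_right_cancel₀ hd h6
    refine ⟨PhiD hφ hK 1 (hS (d ^ 2)), ?_, ?_, fun k x hx => T_norm (PhiD_hS hφ hK 1 _ hd2') k hx⟩
    · intro h
      have h1 := act_hS hφ hK hd2' 1
      rw [h, one_mul, inv_one, mul_one, mul_one] at h1
      have h2 : (1 : KD φ 1) = (d ^ 2) ^ 2 := (coordD hφ hK 1).inj h1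
      apply hd2
      have h7 : (d ^ 2) ^ 2 = 1 := h2.symm
      calc d ^ 2 = d ^ 2 * ((d ^ 2) ^ 2) ^ 6 := by rw [h7]; ring
        _ = d ^ 26 := by ring
        _ = 1 := h26
    · have h1 : ∀ n : ℕ, (hS (d ^ 2) : Matrix.SpecialLinearGroup (Fin 2) (KD φ 1)) ^ n = hS ((d ^ 2) ^ n) := by
        intro n
        induction n with
        | zero => rw [pow_zero, pow_zero, ParSys.Fam.SLNode.hS_one]
        | succ n ih => rw [pow_succ, ih, ParSys.Fam.SLNode.hS_mul (pow_ne_zero _ hd2') hd2', ← pow_succ]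
      rw [← map_pow, h1, ← pow_mul, h26, ParSys.Fam.SLNode.hS_one, map_one]
  · have : Fact (Nat.Prime 3) := ⟨Nat.prime_three⟩
    have := charP3 hK
    have : Finite CoxeterMatrix.G₂.Group := finiteW cs
    have R := Cfsg.Agent.Nodes.RGDTwD4.rgd cs hK hφ 3
    have h1 := R.isPGroup_Upos
    rw [UU_coe hφ hK] at h1
    exact h1
  · intro x hx
    exact syl hφ hK hx

end

end Cfsg.Agent.H3.D43
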