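import Mathlib
import Cfsg.Agent.SplitTwo.HexDefs

/-!
# The field with 27 elements and its Frobenius automorphism (helper3, for the row of ³D₄(3))

* `exists_crs` : `a ↦ a × b` is onto for `b ≠ 0`;
* `exists_trc` : `a ↦ Tr(a c)` is onto the prime field for `c ≠ 0`;
* `exists_zero` : `t N(a) + Tr(a^# b) - Tr(a c) + d` has a zero, or `t = 0` (Chevalley-Warning by hand).
-/

set_option autoImplicit false

namespace Cfsg.Agent.H3.D43

open Cfsg.Agent.SplitTwo Finset

variable {E : Type*} [Field E] [Fintype E] {σ : E ≃+* E}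

theorem three_eq_zero (h27 : Fintype.card E = 27) : (3 : E) = 0 := by
  have h1 : ((27 : ℕ) : E) = 0 := by rw [← h27]; exact Nat.cast_card_eq_zero E
  have h2 : (3 : E) ^ 3 = 0 := by
    rw [← h1]; norm_num
  exact pow_eq_zero_iff (by norm_num) |>.1 h2

theorem two_ne_zero' (h27 : Fintype.card E = 27) : (2 : E) ≠ 0 := by
  intro h
  have h3 := three_eq_zero h27
  have : (1 : E) = 3 - 2 := by norm_num
  rw [h3, h, sub_zero] at this
  exact one_ne_zero this

theorem pow27 (h27 : Fintype.card E = 27) (x : E) : x ^ 27 = x := by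
  rw [← h27]; exact FiniteField.pow_card x

section

variable (h27 : Fintype.card E = 27) (hσ : ∀ x, σ x = x ^ 3)

include h27 hσ

theorem sig3 (x : E) : σ (σ (σ x)) = x := by
  rw [hσ, hσ, hσ, ← pow_mul, ← pow_mul]
  exact pow27 h27 x

theorem exists_crs {b : E} (hb : b ≠ 0) (c : E) : ∃ a, crs σ a b = c := by
  let f : E →+ E :=
    { toFun := fun a => crs σ a b
      map_zero' := by simp [crs]
      map_add' := fun x y => by simp only [crs, map_add]; ring }
  have hinj : Function.Injective f := by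
    rw [injective_iff_map_eq_zero]
    intro a ha
    have ha' : σ a * σ (σ b) + σ (σ a) * σ b = 0 := ha
    have h3 := sig3 h27 hσ
    have hb1 : σ b ≠ 0 := (map_ne_zero σ).2 hb
    have hb2 : σ (σ b) ≠ 0 := (map_ne_zero σ).2 hb1
    obtain ⟨u, rfl⟩ : ∃ u, a = b * u := ⟨a / b, by field_simp⟩
    have h1 : σ u + σ (σ u) = 0 := by
      simp only [map_mul] at ha'
      have h4 : σ b * σ (σ b) * (σ u + σ (σ u)) = 0 := by rw [← ha']; ring
      rcases mul_eq_zero.1 h4 with h5 | h5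
      · rcases mul_eq_zero.1 h5 with h6 | h6
        · exact absurd h6 hb1
        · exact absurd h6 hb2
      · exact h5
    have h2 : σ (σ u) + u = 0 := by
      have h4 := congrArg σ h1
      rwa [map_add, h3, map_zero] at h4
    have h4 : u + σ u = 0 := by
      have h5 := congrArg σ h2
      rwa [map_add, h3, map_zero] at h5
    have h5 : 2 * u = 0 := by linear_combination h2 + h4 - h1
    rcases mul_eq_zero.1 h5 with h6 | h6
    · exact absurd h6 (two_ne_zero' h27)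
    · rw [h6, mul_zero]
  have hsurj : Function.Surjective f := Finite.surjective_of_injective hinj
  exact hsurj c

theorem exists_trace_ne : ∃ e : E, e + σ e + σ (σ e) ≠ 0 := by
  by_contra hcon
  push Not at hcon
  let P : Polynomial E := Polynomial.X ^ 9 + Polynomial.X ^ 3 + Polynomial.X
  have hdeg : P.natDegree = 9 := by
    unfold P
    compute_degree!
  have h1 : P = 0 := by
    refine Polynomial.eq_zero_of_natDegree_lt_card_of_eval_eq_zero' P Finset.univ ?_ ?_
    · intro x _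
      have h2 := hcon x
      rw [hσ, hσ] at h2
      unfold P
      simp only [Polynomial.eval_add, Polynomial.eval_pow, Polynomial.eval_X]
      rw [← h2]; ring
    · rw [hdeg, Finset.card_univ, h27]; norm_num
  rw [h1] at hdeg
  simp at hdeg

theorem exists_trc {c : E} (hc : c ≠ 0) {d : E} (hd : σ d = d) : ∃ a, trc σ a c = d := by
  obtain ⟨e, he⟩ := exists_trace_ne h27 hσ
  set T := e + σ e + σ (σ e) with hT
  have hTσ : σ T = T := by
    rw [hT]
    simp only [map_add, sig3 h27 hσ]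
    ring
  refine ⟨d * T⁻¹ * e / c, ?_⟩
  have h1 : d * T⁻¹ * e / c * c = d * T⁻¹ * e := div_mul_cancel₀ _ hc
  rw [trc, h1]
  simp only [map_mul, map_inv₀, hTσ, hd]
  have h2 : d * T⁻¹ * e + d * T⁻¹ * σ e + d * T⁻¹ * σ (σ e) = d * (T⁻¹ * T) := by rw [hT]; ring
  rw [h2, inv_mul_cancel₀ he, mul_one]

end

/-! ### the zero -/

/-- coefficients of the form -/
def cf (t b c d : E) : Fin 8 → E := ![t, b, b ^ 3, b ^ 9, -c, -c ^ 3, -c ^ 9, d]

/-- exponents of the form -/
def ex : Fin 8 → ℕ := ![13, 12, 10, 4, 1, 3, 9, 0]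

theorem ex_le (k : Fin 8) : ex k ≤ 13 := by fin_cases k <;> simp [ex]

/-- the form -/
def ff (t b c d x y : E) : E := ∑ k, cf t b c d k * (x ^ ex k * y ^ (13 - ex k))

theorem sum_pow_mul_pow (h27 : Fintype.card E = 27) (e : ℕ) (he : e ≤ 26) : (∑ x : E, x ^ e) * (∑ y : E, y ^ (26 - e)) = 0 := by
  rcases Nat.lt_or_ge e 26 with h | h
  · rw [FiniteField.sum_pow_lt_card_sub_one E e (by rw [h27]; exact h), zero_mul]
  · have h1 : 26 - e = 0 := by omega
    rw [h1, FiniteField.sum_pow_lt_card_sub_one E 0 (by rw [h27]; norm_num), mul_zero]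

theorem sum_sq (h27 : Fintype.card E = 27) (t b c d : E) : ∑ x : E, ∑ y : E, ff t b c d x y ^ 2 = 0 := by
  have h1 : ∀ x y : E, ff t b c d x y ^ 2 = ∑ k, ∑ l, (cf t b c d k * cf t b c d l) *
      (x ^ (ex k + ex l) * y ^ (26 - (ex k + ex l))) := by
    intro x y
    rw [ff, sq, Finset.sum_mul_sum]
    refine Finset.sum_congr rfl fun k _ => Finset.sum_congr rfl fun l _ => ?_
    have e1 := ex_le k
    have e2 := ex_le l
    have e3 : 26 - (ex k + ex l) = (13 - ex k) + (13 - ex l) := by omega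
    rw [e3, pow_add, pow_add]
    ring
  simp only [h1]
  have h2 : ∑ x : E, ∑ y : E, ∑ k, ∑ l, (cf t b c d k * cf t b c d l) *
      (x ^ (ex k + ex l) * y ^ (26 - (ex k + ex l))) =
      ∑ k, ∑ l, (cf t b c d k * cf t b c d l) * ((∑ x : E, x ^ (ex k + ex l)) * (∑ y : E, y ^ (26 - (ex k + ex l)))) := by
    have h3 : ∀ x : E, ∑ y : E, ∑ k, ∑ l, (cf t b c d k * cf t b c d l) * (x ^ (ex k + ex l) * y ^ (26 - (ex k + ex l))) =
        ∑ k, ∑ l, (cf t b c d k * cf t b c d l) * (x ^ (ex k + ex l) * ∑ y : E, y ^ (26 - (ex k + ex l))) := by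
      intro x
      rw [Finset.sum_comm]
      refine Finset.sum_congr rfl fun k _ => ?_
      rw [Finset.sum_comm]
      refine Finset.sum_congr rfl fun l _ => ?_
      rw [Finset.mul_sum, Finset.mul_sum]
    simp only [h3]
    rw [Finset.sum_comm]
    refine Finset.sum_congr rfl fun k _ => ?_
    rw [Finset.sum_comm]
    refine Finset.sum_congr rfl fun l _ => ?_
    rw [Finset.sum_mul, Finset.mul_sum]
  rw [h2]
  refine Finset.sum_eq_zero fun k _ => Finset.sum_eq_zero fun l _ => ?_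
  rw [sum_pow_mul_pow h27 _ (by have := ex_le k; have := ex_le l; omega), mul_zero]

theorem ff_cube (h27 : Fintype.card E = 27) {t d : E} (ht : t ^ 3 = t) (hd : d ^ 3 = d) (b c x y : E) :
    ff t b c d x y ^ 3 = ff t b c d x y := by
  have h3 := three_eq_zero h27
  have hch : CharP E 3 := by
    refine (CharP.charP_iff_prime_eq_zero Nat.prime_three).2 ?_
    exact_mod_cast h3
  have hx := pow27 h27 x
  have hy := pow27 h27 y
  have hb := pow27 h27 b
  have hc := pow27 h27 c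
  have e : ff t b c d x y = t * x ^ 13 + b * (x ^ 12 * y) + b ^ 3 * (x ^ 10 * y ^ 3) + b ^ 9 * (x ^ 4 * y ^ 9) +
      -c * (x * y ^ 12) + -c ^ 3 * (x ^ 3 * y ^ 10) + -c ^ 9 * (x ^ 9 * y ^ 4) + d * y ^ 13 := by
    rw [ff]
    simp [Fin.sum_univ_succ, cf, ex]
    ring
  rw [e]
  have hf : ∀ u v : E, (u + v) ^ 3 = u ^ 3 + v ^ 3 := fun u v => add_pow_char_of_commute 3 (Commute.all u v)
  rw [hf, hf, hf, hf, hf, hf, hf]
  have x27 : ∀ n, x ^ (27 + n) = x ^ (1 + n) := fun n => by rw [pow_add, hx, pow_add, pow_one]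
  have y27 : ∀ n, y ^ (27 + n) = y ^ (1 + n) := fun n => by rw [pow_add, hy, pow_add, pow_one]
  have a1 : (t * x ^ 13) ^ 3 = t * x ^ 13 := by
    rw [mul_pow, ht, ← pow_mul]; rw [show 13 * 3 = 27 + 12 from rfl, x27]
  have a2 : (b * (x ^ 12 * y)) ^ 3 = b ^ 3 * (x ^ 10 * y ^ 3) := by
    rw [mul_pow, mul_pow, ← pow_mul, show 12 * 3 = 27 + 9 from rfl, x27]
  have a3 : (b ^ 3 * (x ^ 10 * y ^ 3)) ^ 3 = b ^ 9 * (x ^ 4 * y ^ 9) := by
    rw [mul_pow, mul_pow, ← pow_mul, ← pow_mul, ← pow_mul, show 10 * 3 = 27 + 3 from rfl, x27]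
  have a4 : (b ^ 9 * (x ^ 4 * y ^ 9)) ^ 3 = b * (x ^ 12 * y) := by
    rw [mul_pow, mul_pow, ← pow_mul, ← pow_mul, ← pow_mul, show 9 * 3 = 27 from rfl, hb, hy]
  have a5 : (-c * (x * y ^ 12)) ^ 3 = -c ^ 3 * (x ^ 3 * y ^ 10) := by
    rw [mul_pow, mul_pow, ← pow_mul, show 12 * 3 = 27 + 9 from rfl, y27]; ring
  have a6 : (-c ^ 3 * (x ^ 3 * y ^ 10)) ^ 3 = -c ^ 9 * (x ^ 9 * y ^ 4) := by
    rw [mul_pow, mul_pow, ← pow_mul, ← pow_mul, show 10 * 3 = 27 + 3 from rfl, y27]; ring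
  have a7 : (-c ^ 9 * (x ^ 9 * y ^ 4)) ^ 3 = -c * (x * y ^ 12) := by
    rw [mul_pow, mul_pow, ← pow_mul, ← pow_mul, show 9 * 3 = 27 from rfl, hx]
    have : (-c ^ 9) ^ 3 = -c := by
      have : (-c ^ 9) ^ 3 = -(c ^ 27) := by ring
      rw [this, hc]
    rw [this]
  have a8 : (d * y ^ 13) ^ 3 = d * y ^ 13 := by
    rw [mul_pow, hd, ← pow_mul]; rw [show 13 * 3 = 27 + 12 from rfl, y27]
  rw [a1, a2, a3, a4, a5, a6, a7, a8]
  ring

theorem exists_zero_ff (h27 : Fintype.card E = 27) {t d : E} (ht : t ^ 3 = t) (hd : d ^ 3 = d) (b c : E) :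
    ∃ x y : E, (x ≠ 0 ∨ y ≠ 0) ∧ ff t b c d x y = 0 := by
  classical
  by_contra hcon
  push Not at hcon
  -- the sum of `1 - f²`
  have h0 : ff t b c d 0 0 = 0 := by
    rw [ff]
    refine Finset.sum_eq_zero fun k _ => ?_
    by_cases hk : ex k = 0
    · have : 13 - ex k ≠ 0 := by omega
      rw [zero_pow this]; ring
    · rw [zero_pow hk]; ring
  have h1 : ∀ x y : E, 1 - ff t b c d x y ^ 2 = if x = 0 ∧ y = 0 then 1 else 0 := by
    intro x y
    by_cases hxy : x = 0 ∧ y = 0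
    · rw [if_pos hxy, hxy.1, hxy.2, h0]; ring
    · rw [if_neg hxy]
      have h2 := hcon x y (by
        by_contra h3
        push Not at h3
        exact hxy h3)
      have h3 := ff_cube h27 ht hd b c x y
      have h4 : ff t b c d x y * (1 - ff t b c d x y ^ 2) = 0 := by
        linear_combination -h3
      exact (mul_eq_zero.1 h4).resolve_left h2
  have h2 : ∑ x : E, ∑ y : E, (1 - ff t b c d x y ^ 2) = 1 := by
    simp only [h1]
    rw [Finset.sum_eq_single (0 : E)]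
    · rw [Finset.sum_eq_single (0 : E)]
      · simp
      · intro y _ hy
        rw [if_neg (fun h => hy h.2)]
      · simp
    · intro x _ hx
      refine Finset.sum_eq_zero fun y _ => ?_
      rw [if_neg (fun h => hx h.1)]
    · simp
  have h3 : ∑ x : E, ∑ y : E, (1 - ff t b c d x y ^ 2) = 0 := by
    simp only [Finset.sum_sub_distrib]
    rw [sum_sq h27]
    simp only [Finset.sum_const, Finset.card_univ, h27, sub_zero]
    have h4 := three_eq_zero h27
    have : (27 : ℕ) • ((27 : ℕ) • (1 : E)) = 3 * 243 := by norm_num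
    rw [this, h4, zero_mul]
  rw [h3] at h2
  exact zero_ne_one h2

theorem exists_zero (h27 : Fintype.card E = 27) (hσ : ∀ x, σ x = x ^ 3) {t d : E} (ht : σ t = t) (hd : σ d = d) (b c : E) :
    t = 0 ∨ ∃ a, d + t * nrm σ a + trc σ (shp σ a) b - trc σ a c = 0 := by
  obtain ⟨x, y, hxy, h⟩ := exists_zero_ff h27 (t := t) (d := d) (by rw [← hσ, ht]) (by rw [← hσ, hd]) b c
  have e : ∀ x y, ff t b c d x y = t * x ^ 13 + b * (x ^ 12 * y) + b ^ 3 * (x ^ 10 * y ^ 3) + b ^ 9 * (x ^ 4 * y ^ 9) +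
      -c * (x * y ^ 12) + -c ^ 3 * (x ^ 3 * y ^ 10) + -c ^ 9 * (x ^ 9 * y ^ 4) + d * y ^ 13 := by
    intro x y
    rw [ff]
    simp [Fin.sum_univ_succ, cf, ex]
    ring
  rw [e] at h
  by_cases hy : y = 0
  · left
    subst hy
    have hx : x ≠ 0 := by
      rcases hxy with h1 | h1
      · exact h1
      · exact absurd rfl h1
    have h2 : t * x ^ 13 = 0 := by rw [← h]; ring
    exact (mul_eq_zero.1 h2).resolve_right (pow_ne_zero _ hx)
  · right
    refine ⟨x / y, ?_⟩
    obtain ⟨a, rfl⟩ : ∃ a, x = a * y := ⟨x / y, by field_simp⟩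
    rw [mul_div_assoc, div_self hy, mul_one]
    have h27' := pow27 h27 a
    have h2 : y ^ 13 * (t * a ^ 13 + b * a ^ 12 + b ^ 3 * a ^ 10 + b ^ 9 * a ^ 4 - c * a - c ^ 3 * a ^ 3 - c ^ 9 * a ^ 9 + d) = 0 := by
      rw [← h]; ring
    have h3 := (mul_eq_zero.1 h2).resolve_left (pow_ne_zero _ hy)
    have e1 : nrm σ a = a ^ 13 := by
      rw [nrm, hσ, hσ]; ring
    have e2 : trc σ (shp σ a) b = b * a ^ 12 + b ^ 3 * a ^ 10 + b ^ 9 * a ^ 4 := by
      have e3 : (a ^ 12 * b) ^ 3 = b ^ 3 * a ^ 10 := by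
        have : (a ^ 12 * b) ^ 3 = a ^ 27 * a ^ 9 * b ^ 3 := by ring
        rw [this, h27']; ring
      have e4 : ((a ^ 12 * b) ^ 3) ^ 3 = b ^ 9 * a ^ 4 := by
        rw [e3]
        have : (b ^ 3 * a ^ 10) ^ 3 = a ^ 27 * a ^ 3 * b ^ 9 := by ring
        rw [this, h27']; ring
      have e5 : shp σ a = a ^ 12 := by rw [shp, hσ, hσ]; ring
      rw [trc, e5, hσ (σ _), hσ (a ^ 12 * b), e4, e3]; ring
    have e6 : trc σ a c = c * a + c ^ 3 * a ^ 3 + c ^ 9 * a ^ 9 := by
      rw [trc, hσ, hσ]; ring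
    rw [e1, e2, e6, ← h3]
    ring

end Cfsg.Agent.H3.D43
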