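import Cfsg.Agent.H3.D43.Red
import Cfsg.Agent.H839.Rad.Base

/-!
# ³D₄(3): the parabolic subgroup, and the row for inner elements of order three (helper3)
-/

set_option autoImplicit false

namespace Cfsg.Agent.H3.D43

open Subgroup Cfsg.Agent.SplitTwo Cfsg.Agent.TitsThree.RankTwoZ Cfsg Cfsg.Agent.H459.Rad Cfsg.Agent.H839.Rad

/-! ### generalities -/

section Gen

theorem radIn_central {G : Type*} [Group G] [Finite G] {L : Subgroup G} (hq : IsQuasisimple L) {z : G}
    (hz : z ∈ radIn L) {m : G} (hm : m ∈ L) : m * z = z * m := by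
  have h1 : solvableRadical L ≤ center L := by
    rcases Cfsg.Agent.SignalizersComponents.Components.quasisimple_normal hq _ (rad_normal L) with h2 | h2
    · exact absurd (rad_eq_top_iff.1 h2)
        (Cfsg.Agent.SignalizersComponents.Components.quasisimple_not_isSolvable hq)
    · exact h2
  have hzM := radIn_le L hz
  have h2 : (⟨z, hzM⟩ : L) ∈ center L := h1 (mem_radIn_coe.1 hz)
  have h3 := mem_center_iff.1 h2 ⟨m, hm⟩
  exact congrArg Subtype.val h3

theorem solvable_of_p {G : Type*} [Group G] [Finite G] {H : Subgroup G} {p : ℕ} [Fact p.Prime] (h : IsPGroup p H) :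
    Group.IsSolvable H := by
  have : Group.IsNilpotent H := h.isNilpotent
  infer_instance

theorem mem_normalizer_of_both {G : Type*} [Group G] {H : Subgroup G} {g : G} (h1 : ∀ h ∈ H, g * h * g⁻¹ ∈ H)
    (h2 : ∀ h ∈ H, g⁻¹ * h * g ∈ H) : g ∈ normalizer (H : Set G) := by
  rw [mem_normalizer_iff]
  intro h
  refine ⟨h1 h, fun hh => ?_⟩
  have := h2 _ hh
  have e : g⁻¹ * (g * h * g⁻¹) * g = h := by group
  rwa [e] at this

end Gen

/-- the unipotent radical -/
def QQ {G : Type*} [Group G] (X : ZMod (2 * 6) → Subgroup G) : Subgroup G := X 2 ⊔ X 3 ⊔ X 4 ⊔ X 5 ⊔ X 6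

/-- the Sylow subgroup -/
def UU {G : Type*} [Group G] (X : ZMod (2 * 6) → Subgroup G) : Subgroup G := X 1 ⊔ X 2 ⊔ X 3 ⊔ X 4 ⊔ X 5 ⊔ X 6

/-- the subgroup generated by the root groups of even index -/
def MM {G : Type*} [Group G] (X : ZMod (2 * 6) → Subgroup G) : Subgroup G := ⨆ k : ZMod (2 * 6), X (2 * k)

section Main

variable {E : Type*} [Field E] [Fintype E] {σ : E ≃+* E} {G : Type*} [Group G] {X : ZMod (2 * 6) → Subgroup G}
  {x1 x2 x3 x4 x5 x6 : E → G} {na nb : G} {L : Subgroup G}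

theorem Q2 : X 2 ≤ QQ X := by
  unfold QQ; exact le_sup_of_le_left (le_sup_of_le_left (le_sup_of_le_left le_sup_left))
theorem Q3 : X 3 ≤ QQ X := by
  unfold QQ; exact le_sup_of_le_left (le_sup_of_le_left (le_sup_of_le_left le_sup_right))
theorem Q4 : X 4 ≤ QQ X := by
  unfold QQ; exact le_sup_of_le_left (le_sup_of_le_left le_sup_right)
theorem Q5 : X 5 ≤ QQ X := by
  unfold QQ; exact le_sup_of_le_left le_sup_right
theorem Q6 : X 6 ≤ QQ X := by
  unfold QQ; exact le_sup_right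

theorem UU_eq : UU X = X 1 ⊔ QQ X := by
  unfold UU QQ
  simp only [sup_assoc]

variable (D : Dat σ X x1 x2 x3 x4 x5 x6 na nb L)

include D

theorem nf_mem {t b c d z : E} (ht : σ t = t) (hd : σ d = d) (hz : σ z = z) :
    nf x2 x3 x4 x5 x6 t b c d z ∈ QQ X :=
  mul_mem (mul_mem (mul_mem (mul_mem (Q6 (par6 D ht)) (Q5 (par5 D b))) (Q3 (par3 D c))) (Q2 (par2 D hd)))
    (Q4 (par4 D hz))

theorem mem_QQ {g : G} : g ∈ QQ X ↔ ∃ t b c d z, σ t = t ∧ σ d = d ∧ σ z = z ∧ nf x2 x3 x4 x5 x6 t b c d z = g := by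
  constructor
  swap
  · rintro ⟨t, b, c, d, z, ht, hd, hz, rfl⟩
    exact nf_mem D ht hd hz
  have R := D.par.rel
  have h0 : σ (0 : E) = 0 := map_zero σ
  let S : Subgroup G :=
    { carrier := {g | ∃ t b c d z, σ t = t ∧ σ d = d ∧ σ z = z ∧ nf x2 x3 x4 x5 x6 t b c d z = g}
      one_mem' := ⟨0, 0, 0, 0, 0, h0, h0, h0, nf_zero R⟩
      mul_mem' := by
        rintro _ _ ⟨t, b, c, d, z, ht, hd, hz, rfl⟩ ⟨t', b', c', d', z', ht', hd', hz', rfl⟩
        rw [mul_nf R ht hd hz ht' hd' hz']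
        refine ⟨_, _, _, _, _, ?_, ?_, ?_, rfl⟩
        · rw [map_add, ht, ht']
        · rw [map_add, hd, hd']
        · rw [map_add, map_add, map_add, map_mul, hz, hz', hd, ht', σtrc R]
      inv_mem' := by
        rintro _ ⟨t, b, c, d, z, ht, hd, hz, rfl⟩
        have n : ∀ {y : E}, σ y = y → σ (-y) = -y := fun h => by rw [map_neg, h]
        have hw : σ (-z + d * t + trc σ c b) = -z + d * t + trc σ c b := by
          rw [map_add, map_add, map_mul, n hz, hd, ht, σtrc R]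
        refine ⟨-t, -b, -c, -d, -z + d * t + trc σ c b, n ht, n hd, hw, ?_⟩
        apply eq_inv_of_mul_eq_one_right
        rw [mul_nf R ht hd hz (n ht) (n hd) hw]
        have e : z + (-z + d * t + trc σ c b) + d * -t + trc σ c (-b) = 0 := by
          simp only [trc, mul_neg, map_neg]; ring
        rw [e, add_neg_cancel, add_neg_cancel, add_neg_cancel, add_neg_cancel, nf_zero R] }
  have hS : QQ X ≤ S := by
    unfold QQ
    refine sup_le (sup_le (sup_le (sup_le ?_ ?_) ?_) ?_) ?_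
    · intro g hg
      obtain ⟨s, hs, rfl⟩ := (D.par.mem2 g).1 hg
      exact ⟨0, 0, 0, s, 0, h0, hs, h0, (e2 R s).symm⟩
    · intro g hg
      obtain ⟨s, rfl⟩ := (D.par.mem3 g).1 hg
      exact ⟨0, 0, s, 0, 0, h0, h0, h0, (e3 R s).symm⟩
    · intro g hg
      obtain ⟨s, hs, rfl⟩ := (D.par.mem4 g).1 hg
      exact ⟨0, 0, 0, 0, s, h0, h0, hs, (e4 R s).symm⟩
    · intro g hg
      obtain ⟨s, rfl⟩ := (D.par.mem5 g).1 hg
      exact ⟨0, s, 0, 0, 0, h0, h0, h0, (e5 R s).symm⟩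
    · intro g hg
      obtain ⟨s, hs, rfl⟩ := (D.par.mem6 g).1 hg
      exact ⟨s, 0, 0, 0, 0, hs, h0, h0, (e6 R s).symm⟩
  exact fun h => hS h

theorem x1_inv_conj (a : E) {g : G} (hg : g ∈ QQ X) : (x1 a)⁻¹ * g * x1 a ∈ QQ X := by
  have R := D.par.rel
  obtain ⟨t, b, c, d, z, ht, hd, hz, rfl⟩ := (mem_QQ D).1 hg
  obtain ⟨z', hz', e⟩ := conj_one R a (b := b) (c := c) ht hd hz
  rw [e]
  refine nf_mem D ht ?_ hz'
  rw [map_sub, map_add, map_add, map_mul, hd, ht, σnrm R, σtrc R, σtrc R]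

theorem x1_norm (a : E) : x1 a ∈ normalizer (QQ X : Set G) := by
  have R := D.par.rel
  refine mem_normalizer_of_both (fun g hg => ?_) fun g hg => x1_inv_conj D a hg
  have h1 := x1_inv_conj D (-a) hg
  have e : x1 (-a) = (x1 a)⁻¹ := by
    apply eq_inv_of_mul_eq_one_left
    rw [← R.add1, neg_add_cancel, z1 R]
  rwa [e, inv_inv] at h1

theorem nb_norm : nb ∈ normalizer (QQ X : Set G) := by
  refine mem_normalizer_of_both ?_ ?_
  · have key : QQ X ≤ (QQ X).comap (MulAut.conj nb).toMonoidHom := by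
      nth_rewrite 1 [QQ]
      refine sup_le (sup_le (sup_le (sup_le ?_ ?_) ?_) ?_) ?_
      · exact fun g hg => Q6 (Maps.mem D.mb (k := 2) (k' := 6) (by decide) hg)
      · exact fun g hg => Q5 (Maps.mem D.mb (k := 3) (k' := 5) (by decide) hg)
      · exact fun g hg => Q4 (Maps.mem D.mb (k := 4) (k' := 4) (by decide) hg)
      · exact fun g hg => Q3 (Maps.mem D.mb (k := 5) (k' := 3) (by decide) hg)
      · exact fun g hg => Q2 (Maps.mem D.mb (k := 6) (k' := 2) (by decide) hg)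
    exact fun g hg => key hg
  · have key : QQ X ≤ (QQ X).comap (MulAut.conj nb⁻¹).toMonoidHom := by
      have e : ∀ g : G, (MulAut.conj nb⁻¹).toMonoidHom g = nb⁻¹ * g * nb := fun g => by
        change nb⁻¹ * g * nb⁻¹⁻¹ = _
        rw [inv_inv]
      nth_rewrite 1 [QQ]
      refine sup_le (sup_le (sup_le (sup_le ?_ ?_) ?_) ?_) ?_
      · intro g hg; rw [mem_comap, e]; exact Q6 (Maps.mem_inv D.mb (k := 6) (k' := 2) (by decide) hg)
      · intro g hg; rw [mem_comap, e]; exact Q5 (Maps.mem_inv D.mb (k := 5) (k' := 3) (by decide) hg)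
      · intro g hg; rw [mem_comap, e]; exact Q4 (Maps.mem_inv D.mb (k := 4) (k' := 4) (by decide) hg)
      · intro g hg; rw [mem_comap, e]; exact Q3 (Maps.mem_inv D.mb (k := 3) (k' := 5) (by decide) hg)
      · intro g hg; rw [mem_comap, e]; exact Q2 (Maps.mem_inv D.mb (k := 2) (k' := 6) (by decide) hg)
    intro g hg
    have h1 := key hg
    change nb⁻¹ * g * nb⁻¹⁻¹ ∈ QQ X at h1
    rwa [inv_inv] at h1

/-- the elements of `X 7` -/
theorem mem_X7 {y : G} (hy : y ∈ X 7) : ∃ a, y = nb⁻¹ * x1 a * nb := by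
  have h1 : nb * y * nb⁻¹ ∈ X 1 := Maps.mem D.mb (k := 7) (k' := 1) (by decide) hy
  obtain ⟨a, ha⟩ := (D.par.mem1 _).1 h1
  exact ⟨a, by rw [ha]; group⟩

theorem L_norm : L ≤ normalizer (QQ X : Set G) := by
  rw [D.L_eq]
  refine sup_le ?_ ?_
  · intro y hy
    obtain ⟨a, rfl⟩ := (D.par.mem1 _).1 hy
    exact x1_norm D a
  · intro y hy
    obtain ⟨a, rfl⟩ := mem_X7 D hy
    exact mul_mem (mul_mem (inv_mem (nb_norm D)) (x1_norm D a)) (nb_norm D)

/-- `X 4` centralises `L` -/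
theorem comm4 {t : E} (ht : σ t = t) {m : G} (hm : m ∈ L) : m * x4 t = x4 t * m := by
  have R := D.par.rel
  have key : L ≤ centralizer ({x4 t} : Set G) := by
    rw [D.L_eq]
    refine sup_le ?_ ?_
    · intro y hy
      obtain ⟨a, rfl⟩ := (D.par.mem1 _).1 hy
      exact mem_centralizer_singleton_iff.2 (comm_of_kk (R.c14 a t ht)).eq
    · intro y hy
      obtain ⟨a, rfl⟩ := mem_X7 D hy
      obtain ⟨s, hs, e⟩ := nb4 D ht
      have h1 := (comm_of_kk (R.c14 a s hs)).eq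
      have e' : x4 t = nb⁻¹ * x4 s * nb := by rw [← e]; group
      rw [mem_centralizer_singleton_iff, e']
      calc nb⁻¹ * x1 a * nb * (nb⁻¹ * x4 s * nb) = nb⁻¹ * (x1 a * x4 s) * nb := by group
        _ = _ := by rw [h1]; group
  exact mem_centralizer_singleton_iff.1 (key hm)

theorem x4_ne : x4 1 ≠ 1 := by
  intro h
  have := D.par.inj4 1 0 (map_one σ) (map_zero σ) (h.trans (z4 D.par.rel).symm)
  exact one_ne_zero this

section Fin

variable [Finite G]

theorem solQ : Group.IsSolvable (QQ X) := by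
  have : Fact (Nat.Prime 3) := ⟨Nat.prime_three⟩
  refine Cfsg.Agent.SignalizersComponents.ComponentExists.isSolvable_of_le ?_ (solvable_of_p D.pU)
  change QQ X ≤ UU X
  rw [UU_eq]
  exact le_sup_right

variable [IsSimpleGroup G] (hns : ¬ Group.IsSolvable G)

include hns

theorem ne_top_of_norm {M : Subgroup G} (hM : M ≤ normalizer (QQ X : Set G)) : M ≠ ⊤ := by
  intro h
  have h1 : (QQ X).Normal := normalizer_eq_top_iff.1 (top_le_iff.1 (h ▸ hM))
  rcases h1.eq_bot_or_eq_top with h2 | h2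
  · have h3 : x4 1 ∈ QQ X := Q4 (par4 D (map_one σ))
    rw [h2, mem_bot] at h3
    exact x4_ne D h3
  · apply hns
    have h3 := solQ D
    rw [h2] at h3
    exact Group.isSolvable_of_surjective (f := (⊤ : Subgroup G).subtype) fun g => ⟨⟨g, mem_top g⟩, rfl⟩

theorem M1_ne : L ⊔ QQ X ≠ ⊤ := ne_top_of_norm D hns (sup_le (L_norm D) le_normalizer)

theorem L_ne : L ≠ ⊤ := ne_top_of_norm D hns (L_norm D)

omit hns [IsSimpleGroup G] in
/-- an element of the radical of the parabolic subgroup -/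
theorem rad_lemma {l u : G} (hl : l ∈ L) (hu : u ∈ QQ X) (h : l * u ∈ radIn (L ⊔ QQ X)) {m : G} (hm : m ∈ L) :
    m * l = l * m := by
  have h1 : QQ X ≤ radIn (L ⊔ QQ X) := by
    refine le_radIn le_sup_right ?_ (solQ D)
    intro g hg n hn
    exact (mem_normalizer_iff.1 ((sup_le (L_norm D) le_normalizer : L ⊔ QQ X ≤ normalizer (QQ X : Set G)) hg) n).1 hn
  have h2 : l ∈ radIn (L ⊔ QQ X) := by
    have e : l = l * u * u⁻¹ := by group
    rw [e]
    exact mul_mem h (inv_mem (h1 hu))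
  exact radIn_central D.quasi (radIn_inf_le (le_sup_left : L ≤ L ⊔ QQ X) ⟨h2, hl⟩) hm

end Fin

end Main

end Cfsg.Agent.H3.D43
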