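import Cfsg.Agent.H3.D43.Grp

/-!
# ³D₄(3): the row for inner elements of order three (helper3)
-/

set_option autoImplicit false

namespace Cfsg.Agent.H3.D43

open Subgroup Cfsg.Agent.SplitTwo Cfsg.Agent.TitsThree.RankTwoZ Cfsg Cfsg.Agent.H459.Rad Cfsg.Agent.H839.Rad
open scoped commutatorElement

section Even

/-- induction over the even residues -/
theorem even_up {P : ZMod (2 * 6) → Prop} (c : ZMod (2 * 6)) (h : P (2 * c))
    (hs : ∀ n : ZMod (2 * 6), P (2 * n) → P (2 * (n + 1))) (n : ZMod (2 * 6)) : P (2 * n) := by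
  have key : ∀ m : ℕ, P (2 * (c + (m : ZMod (2 * 6)))) := by
    intro m
    induction m with
    | zero => rw [Nat.cast_zero, add_zero]; exact h
    | succ m ih =>
      have e : c + ((m + 1 : ℕ) : ZMod (2 * 6)) = (c + (m : ZMod (2 * 6))) + 1 := by push_cast; ring
      rw [e]
      exact hs _ ih
  have h1 := key (n - c).val
  rw [ZMod.natCast_zmod_val] at h1
  have e : c + (n - c) = n := by ring
  rwa [e] at h1

theorem even_down {P : ZMod (2 * 6) → Prop} (c : ZMod (2 * 6)) (h : P (2 * c))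
    (hs : ∀ n : ZMod (2 * 6), P (2 * (n + 1)) → P (2 * n)) (n : ZMod (2 * 6)) : P (2 * n) := by
  have h1 := even_up (P := fun k => P (-k)) (-c) (by
    have e : -(2 * -c) = 2 * c := by ring
    rw [e]; exact h) (fun m hm => by
    have e : -(2 * (m + 1)) = 2 * (-m - 1) := by ring
    rw [e]
    apply hs
    have e' : 2 * (-m - 1 + 1) = -(2 * m) := by ring
    rw [e']
    exact hm) (-n)
  have e : -(2 * -n) = 2 * n := by ring
  rwa [e] at h1

end Even

section Main

variable {E : Type*} [Field E] [Fintype E] {σ : E ≃+* E} {G : Type*} [Group G] {X : ZMod (2 * 6) → Subgroup G}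
  {x1 x2 x3 x4 x5 x6 : E → G} {na nb : G} {L : Subgroup G}

theorem X_le_MM (k : ZMod (2 * 6)) : X (2 * k) ≤ MM X := le_iSup (fun k : ZMod (2 * 6) => X (2 * k)) k

variable (D : Dat σ X x1 x2 x3 x4 x5 x6 na nb L)

include D

theorem rot' : Maps X (na * nb) (fun k => k - 2) := rot D

omit D in
theorem rot_step (n : ZMod (2 * 6)) : (fun k : ZMod (2 * 6) => k - 2) (2 * (n + 1)) = 2 * n := by
  change 2 * (n + 1) - 2 = 2 * n
  ring

/-- the fixed elements of `σ` -/
theorem fix_cases {t : E} (ht : σ t = t) : t = 0 ∨ t = 1 ∨ t = -1 := by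
  rw [D.frob] at ht
  have h1 : t * ((t - 1) * (t + 1)) = 0 := by linear_combination ht
  rcases mul_eq_zero.1 h1 with h | h
  · exact Or.inl h
  · rcases mul_eq_zero.1 h with h2 | h2
    · exact Or.inr (Or.inl (sub_eq_zero.1 h2))
    · exact Or.inr (Or.inr (eq_neg_of_add_eq_zero_left h2))

/-- the root groups of even index have order three -/
theorem three (n : ZMod (2 * 6)) : ∀ y ∈ X (2 * n), y ^ 3 = 1 ∧ ∀ z ∈ X (2 * n), y ≠ 1 → z = 1 ∨ z = y ∨ z = y⁻¹ := by
  have R := D.par.rel
  refine even_down (P := fun k => ∀ y ∈ X k, y ^ 3 = 1 ∧ ∀ z ∈ X k, y ≠ 1 → z = 1 ∨ z = y ∨ z = y⁻¹) 1 ?_ ?_ n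
  · have e : (2 * 1 : ZMod (2 * 6)) = 2 := by decide
    rw [e]
    intro y hy
    obtain ⟨a, ha, rfl⟩ := (D.par.mem2 y).1 hy
    refine ⟨?_, ?_⟩
    · have h3 : x2 a ^ 3 = x2 (a + a + a) := by
        rw [R.add2 _ _ (by rw [map_add, ha]) ha, R.add2 _ _ ha ha, pow_succ, pow_two]
      have h4 : a + a + a = 0 := by linear_combination a * three_eq_zero D.h27
      rw [h3, h4, z2 R]
    · intro z hz hne
      obtain ⟨b, hb, rfl⟩ := (D.par.mem2 z).1 hz
      have h1 : x2 (-1) = (x2 1)⁻¹ := n2 R (map_one σ)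
      rcases fix_cases D ha with rfl | rfl | rfl
      · exact absurd (z2 R) hne
      · rcases fix_cases D hb with rfl | rfl | rfl
        · exact Or.inl (z2 R)
        · exact Or.inr (Or.inl rfl)
        · exact Or.inr (Or.inr h1)
      · rcases fix_cases D hb with rfl | rfl | rfl
        · exact Or.inl (z2 R)
        · exact Or.inr (Or.inr (by rw [h1, inv_inv]))
        · exact Or.inr (Or.inl rfl)
  · intro n h y hy
    have hm := rot' D
    have hy' := Maps.mem_inv hm (rot_step n) hy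
    obtain ⟨h1, h2⟩ := h _ hy'
    have e : ∀ g : G, (na * nb) * ((na * nb)⁻¹ * g * (na * nb)) * (na * nb)⁻¹ = g := fun g => by group
    have h1' : (na * nb)⁻¹ * y ^ 3 * (na * nb) = 1 := by
      rw [← h1, pow_succ, pow_two, pow_succ, pow_two]
      generalize na * nb = w
      group
    refine ⟨?_, ?_⟩
    · rw [← e (y ^ 3), h1', mul_one, mul_inv_cancel]
    · intro z hz hne
      have hz' := Maps.mem_inv hm (rot_step n) hz
      have hne' : (na * nb)⁻¹ * y * (na * nb) ≠ 1 := by
        intro h3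
        apply hne
        rw [← e y, h3, mul_one, mul_inv_cancel]
      rcases h2 _ hz' hne' with h3 | h3 | h3
      · left
        rw [← e z, h3, mul_one, mul_inv_cancel]
      · right; left
        rw [← e z, h3, e]
      · right; right
        rw [← e z, h3]
        group

/-- the commutators of the root groups of even index -/
theorem comm_even (n : ZMod (2 * 6)) : ∀ g ∈ X (2 * (n + 1)), ∃ a ∈ X (2 * n), ∃ b ∈ X (2 * (n + 2)), g = kk a b := by
  have R := D.par.rel
  have e1 : (2 * (n + 1) : ZMod (2 * 6)) = 2 * n + 2 := by ring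
  have e2 : (2 * (n + 2) : ZMod (2 * 6)) = 2 * n + 4 := by ring
  rw [e1, e2]
  refine even_down (P := fun k => ∀ g ∈ X (k + 2), ∃ a ∈ X k, ∃ b ∈ X (k + 4), g = kk a b) 1 ?_ ?_ n
  · intro g hg
    have e1 : (2 * 1 + 2 : ZMod (2 * 6)) = 4 := by decide
    have e2 : (2 * 1 : ZMod (2 * 6)) = 2 := by decide
    have e3 : (2 + 4 : ZMod (2 * 6)) = 6 := by decide
    rw [e1] at hg
    rw [e2, e3]
    obtain ⟨s, hs, rfl⟩ := (D.par.mem4 g).1 hg
    exact ⟨x2 1, par2 D (map_one σ), x6 s, par6 D hs, by rw [R.c26 1 s (map_one σ) hs, one_mul]⟩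
  · intro m hm g hg
    have hr := rot' D
    have s0 := rot_step m
    have s1 : (fun k : ZMod (2 * 6) => k - 2) (2 * (m + 1) + 2) = 2 * m + 2 := by
      change 2 * (m + 1) + 2 - 2 = 2 * m + 2
      ring
    have s2 : (fun k : ZMod (2 * 6) => k - 2) (2 * (m + 1) + 4) = 2 * m + 4 := by
      change 2 * (m + 1) + 4 - 2 = 2 * m + 4
      ring
    obtain ⟨a, ha, b, hb, e⟩ := hm _ (Maps.mem_inv hr s1 hg)
    refine ⟨_, Maps.mem hr s0 ha, _, Maps.mem hr s2 hb, ?_⟩
    have e' : g = (na * nb) * kk a b * (na * nb)⁻¹ := by rw [← e]; group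
    rw [e', kk, kk]
    group

variable [Finite G] [IsSimpleGroup G] (hns : ¬ Group.IsSolvable G)

omit D [Finite G] [IsSimpleGroup G] in
theorem kk_mem_comm {M : Subgroup G} {a b : G} (ha : a ∈ M) (hb : b ∈ M) : kk a b ∈ ⁅M, M⁆ := by
  have h := Subgroup.commutator_mem_commutator (inv_mem ha) (inv_mem hb)
  have e : ⁅a⁻¹, b⁻¹⁆ = kk a b := by rw [commutatorElement_def, inv_inv, inv_inv, kk]
  rwa [e] at h

include hns

omit [Finite G] in
theorem MM_ne : MM X ≠ ⊤ := by
  intro htop
  obtain ⟨t, ht1, ht13, ht⟩ := D.tor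
  apply ht1
  have h1 : MM X ≤ centralizer ({t} : Set G) := by
    refine iSup_le fun n y hy => ?_
    rw [mem_centralizer_singleton_iff]
    obtain ⟨h3, h4⟩ := three D n y hy
    by_cases hy1 : y = 1
    · rw [hy1, one_mul, mul_one]
    · have h5 := ht _ _ hy
      rcases h4 _ h5 hy1 with h6 | h6 | h6
      · exact absurd (conj_eq_one_iff.1 h6) hy1
      · have : t * y = y * t := by
          rw [mul_inv_eq_iff_eq_mul] at h6
          exact h6
        exact this.symm
      · have h7 : Commute (t ^ 2) y := by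
          have e1 : t ^ 2 * y * (t ^ 2)⁻¹ = y := by
            have : t ^ 2 * y * (t ^ 2)⁻¹ = t * (t * y * t⁻¹) * t⁻¹ := by rw [pow_two]; group
            rw [this, h6]
            have : t * y⁻¹ * t⁻¹ = (t * y * t⁻¹)⁻¹ := by group
            rw [this, h6, inv_inv]
          exact mul_inv_eq_iff_eq_mul.1 e1
        have h8 : t = ((t ^ 2) ^ 6)⁻¹ := by
          apply eq_inv_of_mul_eq_one_left
          rw [← pow_mul, ← pow_succ', ht13]
        have h9 : Commute t y := by
          rw [h8]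
          exact (h7.pow_left 6).inv_left
        exact h9.eq.symm
  have h2 : t ∈ center G := by
    rw [mem_center_iff]
    intro g
    have h3 : g ∈ MM X := htop ▸ mem_top g
    exact mem_centralizer_singleton_iff.1 (h1 h3)
  rcases (inferInstance : (center G).Normal).eq_bot_or_eq_top with h3 | h3
  · rwa [h3, mem_bot] at h2
  · exfalso
    apply hns
    refine Group.isSolvable_of_comm fun a b => ?_
    exact mem_center_iff.1 (h3 ▸ mem_top b) a

/-- **long root elements are not radical** -/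
theorem not_long {z : E} (hz : σ z = z) (h1 : x4 z ≠ 1) (hrc : RC (MulAut.conj (x4 z))) : False := by
  have e4' : (2 * 2 : ZMod (2 * 6)) = 4 := by decide
  have hz4 : x4 z ∈ X (2 * 2) := by rw [e4']; exact par4 D hz
  have hM := X_le_MM (X := X) 2 hz4
  have h2 : x4 z ∈ radIn (MM X) := mem_radIn_coe.2 (mem_rad hrc (MM_ne D hns) hM)
  have h3 : ∀ n : ZMod (2 * 6), X (2 * n) ≤ radIn (MM X) := by
    refine even_up (P := fun k => X k ≤ radIn (MM X)) 2 ?_ ?_
    · intro w hw
      rcases (three D 2 _ hz4).2 w hw h1 with h | h | h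
      · rw [h]; exact one_mem _
      · rw [h]; exact h2
      · rw [h]; exact inv_mem h2
    · intro n hn g hg
      obtain ⟨a, ha, b, hb, rfl⟩ := comm_even D n g hg
      have h5 := radIn_conj_mem (inv_mem (X_le_MM _ hb)) (hn ha)
      have e : kk a b = a⁻¹ * (b⁻¹ * a * b⁻¹⁻¹) := by rw [kk]; group
      rw [e]
      exact mul_mem (inv_mem (hn ha)) h5
  have h4 : MM X ≤ radIn (MM X) := iSup_le h3
  have h5 : Group.IsSolvable (MM X) :=
    Cfsg.Agent.SignalizersComponents.ComponentExists.isSolvable_of_le h4 (radIn_solvable _)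
  have h6 : ⁅MM X, MM X⁆ = MM X := by
    apply le_antisymm (commutator_le_self _)
    refine iSup_le fun n => ?_
    intro g hg
    have e : n = (n - 1) + 1 := by ring
    rw [e] at hg
    obtain ⟨a, ha, b, hb, rfl⟩ := comm_even D (n - 1) g hg
    exact kk_mem_comm (X_le_MM _ ha) (X_le_MM _ hb)
  have h7 : Group.IsPerfect (MM X) := Subgroup.isPerfect_iff.mpr h6
  have h8 : Nontrivial (MM X) := by
    rw [nontrivial_iff_ne_bot]
    intro h
    rw [h, mem_bot] at hM
    exact h1 hM
  exact Group.IsPerfect.not_isSolvable (MM X) h5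

/-- **short root elements times commuting long root elements are not radical** -/
theorem not_short {c t : E} (hc : c ≠ 0) (ht : σ t = t) (hrc : RC (MulAut.conj (x1 c * x4 t))) : False := by
  have hx1 : x1 c ∈ L := by
    rw [D.L_eq]
    exact mem_sup_left (par1 D c)
  have h1 : ∀ m ∈ L, MulAut.conj (x1 c * x4 t) m = x1 c * m * (x1 c)⁻¹ := by
    intro m hm
    have h2 := comm4 D ht hm
    rw [MulAut.conj_apply]
    calc x1 c * x4 t * m * (x1 c * x4 t)⁻¹ = x1 c * (x4 t * m) * (x4 t)⁻¹ * (x1 c)⁻¹ := by group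
      _ = _ := by rw [← h2]; group
  apply hc
  apply D.cent
  intro m hm
  have h2 := hrc.eq_of_quasisimple (L_ne D hns) (fun m hm => by
    rw [h1 m hm]
    exact mul_mem (mul_mem hx1 hm) (inv_mem hx1)) D.quasi hm
  rw [h1 m hm] at h2
  exact (mul_inv_eq_iff_eq_mul.1 h2).symm

/-- **The inner row.** -/
theorem inner {x : G} (hx : orderOf x = 3) (hrc : RC (MulAut.conj x)) : False := by
  have R := D.par.rel
  obtain ⟨g, hg⟩ := D.syl x hx
  have hrc' := rc_conj hrc g
  have hne : g * x * g⁻¹ ≠ 1 := by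
    intro h
    rw [conj_eq_one_iff.1 h, orderOf_one] at hx
    norm_num at hx
  generalize g * x * g⁻¹ = y at hg hrc' hne
  change y ∈ UU X at hg
  rw [UU_eq] at hg
  have hX1 : X 1 ≤ normalizer (QQ X : Set G) := by
    refine le_trans ?_ (L_norm D)
    rw [D.L_eq]
    exact le_sup_left
  have h1 : y ∈ ((X 1 ⊔ QQ X : Subgroup G) : Set G) := hg
  rw [coe_mul_of_left_le_normalizer_right _ _ hX1] at h1
  obtain ⟨l, hl, u, hu, rfl⟩ := h1
  obtain ⟨a, rfl⟩ := (D.par.mem1 _).1 hl
  have hlL : x1 a ∈ L := by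
    rw [D.L_eq]
    exact mem_sup_left (par1 D a)
  have hM : x1 a * u ∈ L ⊔ QQ X := mul_mem (mem_sup_left hlL) (mem_sup_right hu)
  have h2 : x1 a * u ∈ radIn (L ⊔ QQ X) := mem_radIn_coe.2 (mem_rad hrc' (M1_ne D hns) hM)
  have ha : a = 0 := D.cent a fun m hm => rad_lemma D hlL hu h2 hm
  subst ha
  simp only [z1 R, one_mul] at hrc' hne
  obtain ⟨t, b, c, d, z, ht, hd, hz, rfl⟩ := (mem_QQ D).1 hu
  rcases conj_form D ht hd hz hne with ⟨g', c', t', hc', ht', e⟩ | ⟨g', z', hz', e⟩
  · have h3 := rc_conj hrc' g'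
    rw [e] at h3
    exact not_short D hns hc' ht' h3
  · have h3 := rc_conj hrc' g'
    rw [e] at h3
    refine not_long D hns hz' ?_ h3
    intro h4
    rw [h4] at e
    exact hne (conj_eq_one_iff.1 e)

end Main

end Cfsg.Agent.H3.D43
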