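import Cfsg.Agent.H3.D43.Hex
import Cfsg.Prelude.Def_CaseTheorems

/-!
# ³D₄(3): reduction of the elements of `Q` to normal form (helper3)
-/

set_option autoImplicit false

namespace Cfsg.Agent.H3.D43

open Cfsg.Agent.SplitTwo Cfsg.Agent.TitsThree.RankTwoZ Cfsg

/-- the facts on `³D₄(3)` which are needed -/
structure Dat {E : Type*} [Field E] [Fintype E] (σ : E ≃+* E) {G : Type*} [Group G] (X : ZMod (2 * 6) → Subgroup G)
    (x1 x2 x3 x4 x5 x6 : E → G) (na nb : G) (L : Subgroup G) : Prop where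
  h27 : Fintype.card E = 27
  frob : ∀ x, σ x = x ^ 3
  par : HexPar σ X x1 x2 x3 x4 x5 x6
  ma : Maps X na (fun k => ((6 : ℕ) : ZMod (2 * 6)) - k)
  mb : Maps X nb (fun k => ((6 : ℕ) : ZMod (2 * 6)) + 2 - k)
  top : ⨆ k, X k = ⊤
  L_eq : L = X 1 ⊔ X 7
  quasi : IsQuasisimple L
  cent : ∀ a, (∀ m ∈ L, m * x1 a = x1 a * m) → a = 0
  tor : ∃ t : G, t ≠ 1 ∧ t ^ 13 = 1 ∧ ∀ k x, x ∈ X k → t * x * t⁻¹ ∈ X k
  pU : IsPGroup 3 ↥(X 1 ⊔ X 2 ⊔ X 3 ⊔ X 4 ⊔ X 5 ⊔ X 6 : Subgroup G)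
  syl : ∀ x : G, orderOf x = 3 → ∃ g, g * x * g⁻¹ ∈ (X 1 ⊔ X 2 ⊔ X 3 ⊔ X 4 ⊔ X 5 ⊔ X 6 : Subgroup G)

section Maps

variable {G : Type*} [Group G] {X : ZMod (2 * 6) → Subgroup G} {w : G} {f : ZMod (2 * 6) → ZMod (2 * 6)}

theorem Maps.mem (h : Maps X w f) {k k' : ZMod (2 * 6)} (hk : f k = k') {x : G} (hx : x ∈ X k) :
    w * x * w⁻¹ ∈ X k' := by
  rw [← hk]
  exact (h k x).2 hx

theorem Maps.mem_inv (h : Maps X w f) {k k' : ZMod (2 * 6)} (hk : f k = k') {x : G} (hx : x ∈ X k') :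
    w⁻¹ * x * w ∈ X k := by
  have h1 := h k (w⁻¹ * x * w)
  have e : w * (w⁻¹ * x * w) * w⁻¹ = x := by group
  rw [e, hk] at h1
  exact h1.1 hx

end Maps

section Conj

variable {E : Type*} [Field E] [Fintype E] {σ : E ≃+* E} {G : Type*} [Group G] {X : ZMod (2 * 6) → Subgroup G}
  {x1 x2 x3 x4 x5 x6 : E → G} {na nb : G} {L : Subgroup G} (D : Dat σ X x1 x2 x3 x4 x5 x6 na nb L)

include D

theorem par1 (a : E) : x1 a ∈ X 1 := (D.par.mem1 _).2 ⟨a, rfl⟩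
theorem par2 {a : E} (ha : σ a = a) : x2 a ∈ X 2 := (D.par.mem2 _).2 ⟨a, ha, rfl⟩
theorem par3 (a : E) : x3 a ∈ X 3 := (D.par.mem3 _).2 ⟨a, rfl⟩
theorem par4 {a : E} (ha : σ a = a) : x4 a ∈ X 4 := (D.par.mem4 _).2 ⟨a, ha, rfl⟩
theorem par5 (a : E) : x5 a ∈ X 5 := (D.par.mem5 _).2 ⟨a, rfl⟩
theorem par6 {a : E} (ha : σ a = a) : x6 a ∈ X 6 := (D.par.mem6 _).2 ⟨a, ha, rfl⟩

theorem na62 {t : E} (ht : σ t = t) : ∃ s, σ s = s ∧ na * x2 t * na⁻¹ = x4 s := by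
  obtain ⟨s, h1, h2⟩ := (D.par.mem4 _).1 (Maps.mem D.ma (k := 2) (k' := 4) (by decide) (par2 D ht))
  exact ⟨s, h1, h2.symm⟩

theorem nb6 {t : E} (ht : σ t = t) : ∃ s, σ s = s ∧ nb * x6 t * nb⁻¹ = x2 s := by
  obtain ⟨s, h1, h2⟩ := (D.par.mem2 _).1 (Maps.mem D.mb (k := 6) (k' := 2) (by decide) (par6 D ht))
  exact ⟨s, h1, h2.symm⟩

theorem nb5 (t : E) : ∃ s, nb * x5 t * nb⁻¹ = x3 s := by
  obtain ⟨s, h2⟩ := (D.par.mem3 _).1 (Maps.mem D.mb (k := 5) (k' := 3) (by decide) (par5 D t))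
  exact ⟨s, h2.symm⟩

theorem nb3 (t : E) : ∃ s, nb * x3 t * nb⁻¹ = x5 s := by
  obtain ⟨s, h2⟩ := (D.par.mem5 _).1 (Maps.mem D.mb (k := 3) (k' := 5) (by decide) (par3 D t))
  exact ⟨s, h2.symm⟩

theorem nb2 {t : E} (ht : σ t = t) : ∃ s, σ s = s ∧ nb * x2 t * nb⁻¹ = x6 s := by
  obtain ⟨s, h1, h2⟩ := (D.par.mem6 _).1 (Maps.mem D.mb (k := 2) (k' := 6) (by decide) (par2 D ht))
  exact ⟨s, h1, h2.symm⟩

theorem nb4 {t : E} (ht : σ t = t) : ∃ s, σ s = s ∧ nb * x4 t * nb⁻¹ = x4 s := by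
  obtain ⟨s, h1, h2⟩ := (D.par.mem4 _).1 (Maps.mem D.mb (k := 4) (k' := 4) (by decide) (par4 D ht))
  exact ⟨s, h1, h2.symm⟩

/-- the rotation `k ↦ k - 2` -/
theorem rot : Maps X (na * nb) (fun k => k - 2) :=
  (Maps.mul D.ma D.mb).congr (by decide)

theorem rot6 {t : E} (ht : σ t = t) : ∃ s, σ s = s ∧ na * nb * x6 t * (na * nb)⁻¹ = x4 s := by
  obtain ⟨s, h1, h2⟩ := (D.par.mem4 _).1 (Maps.mem (rot D) (k := 6) (k' := 4) (by decide) (par6 D ht))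
  exact ⟨s, h1, h2.symm⟩

theorem rot3 (t : E) : ∃ s, na * nb * x3 t * (na * nb)⁻¹ = x1 s := by
  obtain ⟨s, h2⟩ := (D.par.mem1 _).1 (Maps.mem (rot D) (k := 3) (k' := 1) (by decide) (par3 D t))
  exact ⟨s, h2.symm⟩

/-- conjugation by `n_b` -/
theorem nb_nf {t b c z : E} (ht : σ t = t) (hz : σ z = z) :
    ∃ b' c' d' z', σ d' = d' ∧ σ z' = z' ∧ nb * nf x2 x3 x4 x5 x6 t b c 0 z * nb⁻¹ = nf x2 x3 x4 x5 x6 0 b' c' d' z' := by
  have R := D.par.rel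
  have h0 : σ (0 : E) = 0 := map_zero σ
  obtain ⟨t1, ht1, e1⟩ := nb6 D ht
  obtain ⟨b1, e2'⟩ := nb5 D b
  obtain ⟨c1, e3'⟩ := nb3 D c
  obtain ⟨z1, hz1, e4'⟩ := nb4 D hz
  have e : nb * nf x2 x3 x4 x5 x6 t b c 0 z * nb⁻¹ = (nb * x6 t * nb⁻¹) * (nb * x5 b * nb⁻¹) * (nb * x3 c * nb⁻¹) *
      (nb * x4 z * nb⁻¹) := by
    rw [nf, z2 R]; group
  rw [e, e1, e2', e3', e4', e2 R, e3 R, e5 R, e4 R]
  rw [mul_nf R h0 ht1 h0 h0 h0 h0]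
  have s1 : σ (0 + 0 + t1 * 0 + trc σ 0 0) = 0 + 0 + t1 * 0 + trc σ (0 : E) 0 := by
    rw [mul_zero, map_add, map_add, map_add, h0, σtrc R]
  rw [mul_nf R (by rw [add_zero, h0]) (by rw [add_zero, ht1]) s1 h0 h0 h0]
  generalize 0 + 0 + t1 * 0 + trc σ (0 : E) 0 = w at s1 ⊢
  have s2 : σ (w + 0 + (t1 + 0) * 0 + trc σ (0 + b1) c1) = w + 0 + (t1 + 0) * 0 + trc σ (0 + b1) c1 := by
    rw [mul_zero, map_add, map_add, map_add, h0, s1, σtrc R]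
  rw [mul_nf R (by rw [add_zero, add_zero, h0]) (by rw [add_zero, add_zero, ht1]) s2 h0 h0 hz1]
  generalize w + 0 + (t1 + 0) * 0 + trc σ (0 + b1) c1 = w' at s2 ⊢
  refine ⟨0 + 0 + c1 + 0, 0 + b1 + 0 + 0, t1 + 0 + 0 + 0,
    w' + z1 + (t1 + 0 + 0) * 0 + trc σ (0 + b1 + 0) 0, ?_, ?_, ?_⟩
  · rw [add_zero, add_zero, add_zero, ht1]
  · rw [mul_zero, map_add, map_add, map_add, h0, s2, hz1, σtrc R]
  · congr 1
    rw [add_zero, add_zero, add_zero]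

/-- first step: kill the coefficient of `x₆` -/
theorem step_one {t b c d z : E} (ht : σ t = t) (hd : σ d = d) (hz : σ z = z) :
    ∃ g b' c' d' z', σ d' = d' ∧ σ z' = z' ∧
      g * nf x2 x3 x4 x5 x6 t b c d z * g⁻¹ = nf x2 x3 x4 x5 x6 0 b' c' d' z' := by
  have R := D.par.rel
  rcases exists_zero D.h27 D.frob ht hd b c with h | ⟨a, ha⟩
  · subst h
    exact ⟨1, b, c, d, z, hd, hz, by group⟩
  · obtain ⟨z', hz', e⟩ := conj_one R a (b := b) (c := c) ht hd hz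
    rw [ha] at e
    obtain ⟨b1, c1, d1, z1, hd1, hz1, e1⟩ := nb_nf D (b := b + t * a) (c := c - t * shp σ a - crs σ a b) ht hz'
    refine ⟨nb * (x1 a)⁻¹, b1, c1, d1, z1, hd1, hz1, ?_⟩
    rw [← e1, ← e]
    group

theorem inj1' {a : E} (h : x1 a = 1) : a = 0 := D.par.inj1 _ _ (h.trans (z1 D.par.rel).symm)
theorem inj3' {a : E} (h : x3 a = 1) : a = 0 := D.par.inj3 _ _ (h.trans (z3 D.par.rel).symm)
theorem inj5' {a : E} (h : x5 a = 1) : a = 0 := D.par.inj5 _ _ (h.trans (z5 D.par.rel).symm)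

/-- last step for `x₆(t) x₃(c) x₄(z)`, `c ≠ 0` -/
theorem step_three {t c z : E} (ht : σ t = t) (hz : σ z = z) (hc : c ≠ 0) :
    ∃ g c' t', c' ≠ 0 ∧ σ t' = t' ∧ g * (x6 t * x3 c * x4 z) * g⁻¹ = x1 c' * x4 t' := by
  have R := D.par.rel
  have hnz : σ (-z) = -z := by rw [map_neg, hz]
  obtain ⟨e, he⟩ := exists_trc D.h27 D.frob hc hnz
  have he' : trc σ c e = -z := by rw [← he]; simp only [trc, mul_comm]
  obtain ⟨t', ht', e1⟩ := rot6 D ht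
  obtain ⟨c', e2⟩ := rot3 D c
  refine ⟨na * nb * (x5 e)⁻¹, c', t', ?_, ht', ?_⟩
  · rintro rfl
    apply hc
    apply inj3' D
    rw [z1 R] at e2
    have := conj_eq_one_iff.1 e2
    exact this
  · have a1 := kk_eq (R.c35 c e)
    rw [he', n4 R hz] at a1
    have a2 := (comm_of_kk (R.c56 e t ht)).eq
    have a3 := (comm_of_kk (R.c45 z e hz)).eq
    have key : (x5 e)⁻¹ * (x6 t * x3 c * x4 z) * x5 e = x6 t * x3 c := by
      calc (x5 e)⁻¹ * (x6 t * x3 c * x4 z) * x5 e = (x5 e)⁻¹ * x6 t * x3 c * (x4 z * x5 e) := by group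
        _ = (x5 e)⁻¹ * x6 t * (x3 c * x5 e) * x4 z := by rw [a3]; group
        _ = (x5 e)⁻¹ * (x6 t * x5 e) * x3 c * (x4 z)⁻¹ * x4 z := by rw [a1]; group
        _ = x6 t * x3 c := by rw [← a2]; group
    have a4 := (comm_of_kk (R.c14 c' t' ht')).eq
    calc na * nb * (x5 e)⁻¹ * (x6 t * x3 c * x4 z) * (na * nb * (x5 e)⁻¹)⁻¹
        = na * nb * ((x5 e)⁻¹ * (x6 t * x3 c * x4 z) * x5 e) * (na * nb)⁻¹ := by group
      _ = (na * nb * x6 t * (na * nb)⁻¹) * (na * nb * x3 c * (na * nb)⁻¹) := by rw [key]; group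
      _ = x1 c' * x4 t' := by rw [e1, e2, a4]

/-- **Normal forms.** -/
theorem conj_form {t b c d z : E} (ht : σ t = t) (hd : σ d = d) (hz : σ z = z)
    (h1 : nf x2 x3 x4 x5 x6 t b c d z ≠ 1) :
    (∃ g c' t', c' ≠ 0 ∧ σ t' = t' ∧ g * nf x2 x3 x4 x5 x6 t b c d z * g⁻¹ = x1 c' * x4 t') ∨
    ∃ g z', σ z' = z' ∧ g * nf x2 x3 x4 x5 x6 t b c d z * g⁻¹ = x4 z' := by
  have R := D.par.rel
  have h0 : σ (0 : E) = 0 := map_zero σ
  obtain ⟨g0, b1, c1, d1, z1, hd1, hz1, e⟩ := step_one D (b := b) (c := c) ht hd hz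
  have tr : ∀ (g x y : G), x = nf x2 x3 x4 x5 x6 0 b1 c1 d1 z1 → g * x * g⁻¹ = y →
      (g * g0) * nf x2 x3 x4 x5 x6 t b c d z * (g * g0)⁻¹ = y := by
    rintro g x y rfl rfl
    rw [← e]; group
  have h2 : nf x2 x3 x4 x5 x6 0 b1 c1 d1 z1 ≠ 1 := by
    intro h
    rw [h] at e
    exact h1 (conj_eq_one_iff.1 e)
  by_cases hb : b1 = 0
  · subst hb
    by_cases hc : c1 = 0
    · subst hc
      right
      by_cases hd : d1 = 0
      · subst hd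
        refine ⟨g0, z1, hz1, ?_⟩
        rw [e, ← e4 R]
      · have hdz : σ (-(z1 / d1)) = -(z1 / d1) := by rw [map_neg, map_div₀, hz1, hd1]
        obtain ⟨s, hs, e5'⟩ := na62 D hd1
        refine ⟨na * (x6 (-(z1 / d1)))⁻¹ * g0, s, hs, ?_⟩
        rw [tr (na * (x6 (-(z1 / d1)))⁻¹) _ (x4 s) rfl]
        have a1 := kk_eq (R.c26 d1 (-(z1 / d1)) hd1 hdz)
        have a2 := (comm_of_kk (R.c46 z1 (-(z1 / d1)) hz1 hdz)).eq
        have a3 : d1 * -(z1 / d1) = -z1 := by field_simp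
        rw [a3, n4 R hz1] at a1
        rw [nf, z6 R, z5 R, z3 R, one_mul, one_mul, one_mul, ← e5']
        have a4 := R.c24 d1 z1 hd1 hz1
        calc na * (x6 (-(z1 / d1)))⁻¹ * (x2 d1 * x4 z1) * (na * (x6 (-(z1 / d1)))⁻¹)⁻¹
            = na * ((x6 (-(z1 / d1)))⁻¹ * x2 d1 * (x4 z1 * x6 (-(z1 / d1)))) * na⁻¹ := by group
          _ = na * ((x6 (-(z1 / d1)))⁻¹ * (x2 d1 * x6 (-(z1 / d1))) * x4 z1) * na⁻¹ := by rw [a2]; group
          _ = na * x2 d1 * na⁻¹ := by rw [a1]; group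
    · left
      have hzd : σ d1 = d1 := hd1
      obtain ⟨a, ha⟩ := exists_trc D.h27 D.frob hc hd1
      obtain ⟨zz, hz2, e2'⟩ := conj_one R a (b := 0) (c := c1) h0 hd1 hz1
      have e3' : c1 - 0 * shp σ a - crs σ a 0 = c1 := by simp [crs]
      have e4' : d1 + 0 * nrm σ a + trc σ (shp σ a) 0 - trc σ a c1 = 0 := by
        rw [ha]; simp [trc]
      have e5' : (0 : E) + 0 * a = 0 := by ring
      rw [e3', e4', e5'] at e2'
      obtain ⟨g, c2, t2, hc2, ht2, e6'⟩ := step_three D h0 hz2 hc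
      refine ⟨g * (x1 a)⁻¹ * g0, c2, t2, hc2, ht2, ?_⟩
      rw [tr (g * (x1 a)⁻¹) _ (x1 c2 * x4 t2) rfl]
      rw [← e6']
      have e7 : nf x2 x3 x4 x5 x6 0 0 c1 0 zz = x6 0 * x3 c1 * x4 zz := by
        rw [nf, z5 R, z2 R, mul_one, mul_one]
      rw [← e7, ← e2']
      group
  · left
    obtain ⟨a, ha⟩ := exists_crs D.h27 D.frob hb c1
    obtain ⟨zz, hz2, e2'⟩ := conj_one R a (b := b1) (c := c1) h0 hd1 hz1
    have e3' : c1 - 0 * shp σ a - crs σ a b1 = 0 := by rw [ha]; ring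
    have e5' : b1 + 0 * a = b1 := by ring
    rw [e3', e5'] at e2'
    have hd2 : σ (d1 + 0 * nrm σ a + trc σ (shp σ a) b1 - trc σ a c1) =
      d1 + 0 * nrm σ a + trc σ (shp σ a) b1 - trc σ a c1 := by
      rw [zero_mul, map_sub, map_add, map_add, h0, hd1, σtrc R, σtrc R]
    generalize d1 + 0 * nrm σ a + trc σ (shp σ a) b1 - trc σ a c1 = d2 at hd2 e2'
    obtain ⟨b3, eb⟩ := nb5 D b1
    obtain ⟨t3, ht3, et⟩ := nb2 D hd2
    obtain ⟨z3', hz3, ez⟩ := nb4 D hz2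
    have hb3 : b3 ≠ 0 := by
      rintro rfl
      rw [z3 R] at eb
      exact hb (inj5' D (conj_eq_one_iff.1 eb))
    obtain ⟨g, c2, t2, hc2, ht2, e6'⟩ := step_three D ht3 hz3 hb3
    refine ⟨g * nb * (x1 a)⁻¹ * g0, c2, t2, hc2, ht2, ?_⟩
    rw [tr (g * nb * (x1 a)⁻¹) _ (x1 c2 * x4 t2) rfl]
    have e7 : nb * nf x2 x3 x4 x5 x6 0 b1 0 d2 zz * nb⁻¹ = x6 t3 * x3 b3 * x4 z3' := by
      rw [← eb, ← et, ← ez, nf, z6 R, z3 R]
      have a1 : Commute (nb * x6 0 * nb⁻¹) 1 := Commute.one_right _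
      have a2 := (comm_of_kk (R.c25 d2 b1 hd2)).eq
      calc nb * (1 * x5 b1 * 1 * x2 d2 * x4 zz) * nb⁻¹ = nb * (x5 b1 * x2 d2) * x4 zz * nb⁻¹ := by group
        _ = _ := by rw [← a2]; group
    rw [← e6', ← e7, ← e2']
    group

end Conj

end Cfsg.Agent.H3.D43
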